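import Mathlib
import Groth.Agent.LC.DepthExt
import Groth.Agent.LC.DepthFlatFibre
import Groth.Agent.LC.LiaisonLocal
import Groth.Agent.LC.CanonAnnihilator

/-!
# A finitely generated algebra over an artinian ring has a closed Cohen–Macaulay point
-/

universe u

open IsLocalRing
open scoped Pointwise

namespace Groth.Agent.CMPointLib

/-- A local ring is Cohen–Macaulay if its quotient by a regular element of the maximal ideal is. -/
theorem isCMLocal_of_quot {R : Type u} [CommRing R] [IsLocalRing R] [IsNoetherianRing R] {x : R}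
    (hx : x ∈ maximalIdeal R) (hreg : IsSMulRegular R x)
    [h : LocCoh.IsCohenMacaulayLocalRing (R ⧸ Ideal.span {x})] : LocCoh.IsCohenMacaulayLocalRing R := by
  refine { supportDim_eq_depth := ?_ }
  have hmax : (maximalIdeal R).map (Ideal.Quotient.mk (Ideal.span {x})) = maximalIdeal (R ⧸ Ideal.span {x}) :=
    map_maximalIdeal_of_surjective _ Ideal.Quotient.mk_surjective
  have hspan : Ideal.span {x} = x • (⊤ : Ideal R) := by simp [← Submodule.ideal_span_singleton_smul]
  have h2 : LocCoh.idealDepth (maximalIdeal R) (QuotSMulTop x R) =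
      LocCoh.depth (R ⧸ Ideal.span {x}) (R ⧸ Ideal.span {x}) := by
    rw [LocCoh.depth, ← hmax, ← LC.idealDepth_quot_self_le]
    exact LC.idealDepth_congr _ (Submodule.quotEquivOfEq _ _ hspan.symm)
  rw [Module.supportDim_self_eq_ringKrullDim,
    ← ringKrullDim_quotient_span_singleton_succ_eq_ringKrullDim hreg hx, ← Module.supportDim_self_eq_ringKrullDim,
    h.supportDim_eq_depth]
  show _ = ((LocCoh.idealDepth (maximalIdeal R) R : ℕ∞) : WithBot ℕ∞)
  rw [← LC.idealDepth_quotSMulTop_add_one (maximalIdeal R) (M := R) hx hreg, h2]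
  rfl

/-- Cohen–Macaulayness of a local ring lifts along a regular element. -/
theorem isCMLocal_atPrime_of_quot {S : Type u} [CommRing S] [IsNoetherianRing S] {f : S}
    (hf : f ∈ nonZeroDivisors S) (n : Ideal (S ⧸ Ideal.span {f})) [n.IsPrime]
    [LocCoh.IsCohenMacaulayLocalRing (Localization.AtPrime n)] :
    LocCoh.IsCohenMacaulayLocalRing (Localization.AtPrime (n.comap (Ideal.Quotient.mk (Ideal.span {f})))) := by
  let I := Ideal.span {f}
  let p := n.comap (Ideal.Quotient.mk I)
  haveI : p.IsPrime := Ideal.comap_isPrime _ _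
  let L := Localization.AtPrime p
  let g := algebraMap S L
  have hfp : f ∈ p := by
    show Ideal.Quotient.mk I f ∈ n
    rw [Ideal.Quotient.eq_zero_iff_mem.mpr (Ideal.mem_span_singleton_self f)]
    exact n.zero_mem
  have hgm : g f ∈ maximalIdeal L := (IsLocalization.AtPrime.to_map_mem_maximal_iff L p f).mpr hfp
  have hreg : IsSMulRegular L (g f) := by
    intro a b hab
    obtain ⟨⟨a₁, s⟩, rfl⟩ := IsLocalization.mk'_surjective p.primeCompl a
    obtain ⟨⟨b₁, t⟩, rfl⟩ := IsLocalization.mk'_surjective p.primeCompl b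
    simp only [smul_eq_mul, g, ← IsLocalization.mk'_one (M := p.primeCompl) L f, ← IsLocalization.mk'_mul, one_mul,
      IsLocalization.eq] at hab
    obtain ⟨c, hc⟩ := hab
    refine IsLocalization.eq.mpr ⟨c, ?_⟩
    refine (mul_cancel_left_mem_nonZeroDivisors hf).mp ?_
    linear_combination hc
  have hmap : Algebra.algebraMapSubmonoid (S ⧸ I) p.primeCompl = n.primeCompl := by
    ext y
    constructor
    · rintro ⟨x, hx, rfl⟩; exact hx
    · intro hy
      obtain ⟨x, rfl⟩ := Ideal.Quotient.mk_surjective y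
      exact ⟨x, hy, rfl⟩
  haveI : IsLocalization n.primeCompl (L ⧸ I.map g) := hmap ▸ inferInstance
  let e : Localization.AtPrime n ≃+* (L ⧸ I.map g) :=
    (IsLocalization.algEquiv n.primeCompl (Localization.AtPrime n) (L ⧸ I.map g)).toRingEquiv
  have hI : I.map g = Ideal.span {g f} := by rw [Ideal.map_span, Set.image_singleton]
  let e' : Localization.AtPrime n ≃+* (L ⧸ Ideal.span {g f}) := e.trans (Ideal.quotEquivOfEq hI)
  haveI : IsLocalRing (L ⧸ Ideal.span {g f}) := e'.isLocalRing
  haveI := LC.Liaison.isCMLocal_of_ringEquiv e'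
  exact isCMLocal_of_quot hgm hreg

/-- A nonzero finitely generated algebra over an artinian ring has a maximal ideal with Cohen–Macaulay localisation. -/
theorem exists_isMaximal_isCMLocal (A : Type u) [CommRing A] [IsArtinianRing A] :
    ∀ (k : ℕ) (C : Type u) [CommRing C] [Algebra A C] [Algebra.FiniteType A C] [Nontrivial C],
      ringKrullDim C ≤ (k : WithBot ℕ∞) →
      ∃ m : Ideal C, ∃ _ : m.IsMaximal, LocCoh.IsCohenMacaulayLocalRing (Localization.AtPrime m) := by
  intro k
  induction k using Nat.strong_induction_on with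
  | _ k ih =>
    intro C _ _ _ _ hk
    haveI : IsNoetherianRing C := Algebra.FiniteType.isNoetherianRing A C
    haveI : IsJacobsonRing C := isJacobsonRing_of_finiteType (A := A)
    obtain ⟨P, hP⟩ := Ideal.nonempty_minimalPrimes (I := (⊥ : Ideal C)) (by simp)
    haveI : P.IsPrime := hP.isPrime
    classical
    -- a function avoiding `P` and lying in all other associated primes
    have hfin := associatedPrimes.finite C C
    let others := hfin.toFinset.erase P
    obtain ⟨g, hgothers, hgP⟩ : ∃ g : C, (∀ Q ∈ others, g ∈ Q) ∧ g ∉ P := by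
      have : ¬ others.inf id ≤ P := by
        rw [Ideal.IsPrime.inf_le' hP.isPrime]
        rintro ⟨Q, hQ, hQP⟩
        obtain ⟨hne, hQA⟩ := Finset.mem_erase.mp hQ
        have := (Set.Finite.mem_toFinset _).mp hQA
        exact hne (le_antisymm hQP (hP.2 ⟨AssociatedPrimes.mem_iff.mp this |>.isPrime, bot_le⟩ hQP))
      obtain ⟨g, hg, hgP⟩ := SetLike.not_le_iff_exists.mp this
      exact ⟨g, fun Q hQ => (Finset.inf_le hQ : others.inf id ≤ Q) hg, hgP⟩
    let Cg := Localization.Away g
    haveI : IsNoetherianRing Cg := IsLocalization.isNoetherianRing (Submonoid.powers g) Cg inferInstance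
    haveI : Nontrivial Cg := by
      refine nontrivial_of_ne (1 : Cg) 0 fun h10 => ?_
      rw [← map_one (algebraMap C Cg), ← map_zero (algebraMap C Cg), IsLocalization.eq_iff_exists (Submonoid.powers g)] at h10
      obtain ⟨⟨_, i, rfl⟩, hi⟩ := h10
      have hi' : g ^ i = 0 := by simpa using hi
      exact hgP (hP.isPrime.mem_of_pow_mem i (by rw [hi']; exact P.zero_mem))
    haveI hCCg : Algebra.FiniteType C Cg := IsLocalization.finiteType_of_monoid_fg (Submonoid.powers g) Cg
    haveI : Algebra.FiniteType A Cg := Algebra.FiniteType.trans ‹Algebra.FiniteType A C› hCCg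
    haveI : IsJacobsonRing Cg := isJacobsonRing_of_finiteType (A := A)
    have hass : ∀ Q ∈ associatedPrimes Cg Cg, Q.comap (algebraMap C Cg) = P := by
      intro Q hQ
      haveI : Q.IsPrime := (AssociatedPrimes.mem_iff.mp hQ).isPrime
      rw [← Module.associatedPrimes.preimage_comap_associatedPrimes_eq_associatedPrimes_of_isLocalizedModule
        (R' := Cg) (Submonoid.powers g) (f := Algebra.linearMap C Cg)] at hQ
      by_contra hne
      have hgQ := hgothers _ (Finset.mem_erase.mpr ⟨hne, hfin.mem_toFinset.mpr hQ⟩)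
      exact ‹Q.IsPrime›.ne_top (Ideal.eq_top_of_isUnit_mem _ hgQ (IsLocalization.Away.algebraMap_isUnit g))
    obtain ⟨Q₀, hQ₀⟩ := associatedPrimes.nonempty Cg Cg
    haveI hQ₀' : Q₀.IsPrime := (AssociatedPrimes.mem_iff.mp hQ₀).isPrime
    have huniq : ∀ Q ∈ associatedPrimes Cg Cg, Q = Q₀ := fun Q hQ => by
      rw [← IsLocalization.map_under (Submonoid.powers g) Cg Q, show Q.under C = P from hass Q hQ,
        ← show Q₀.under C = P from hass Q₀ hQ₀, IsLocalization.map_under (Submonoid.powers g) Cg Q₀]
    have hle : ∀ q : Ideal Cg, q.IsPrime → Q₀ ≤ q := by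
      intro q hq
      obtain ⟨Q, hQ, hQq⟩ := Ideal.exists_minimalPrimes_le (I := (⊥ : Ideal Cg)) (J := q) bot_le
      have : Q ∈ associatedPrimes Cg Cg := Module.associatedPrimes.minimalPrimes_annihilator_subset_associatedPrimes Cg Cg (by
        rwa [(Module.annihilator_eq_bot.mpr inferInstance : Module.annihilator Cg Cg = ⊥)])
      exact (huniq Q this) ▸ hQq
    have hdimg : ringKrullDim Cg ≤ (k : WithBot ℕ∞) := by
      refine le_trans ?_ hk
      exact Order.krullDim_le_of_strictMono
        (fun q : PrimeSpectrum Cg => PrimeSpectrum.comap (algebraMap C Cg) q) fun q q' h => by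
          refine lt_of_le_of_ne (Ideal.comap_mono h.le) fun heq => h.ne ?_
          exact PrimeSpectrum.localization_comap_injective Cg (Submonoid.powers g) heq
    -- a closed Cohen–Macaulay point of `Cg`
    obtain ⟨m, hm, hCM⟩ : ∃ m : Ideal Cg, ∃ _ : m.IsMaximal,
        LocCoh.IsCohenMacaulayLocalRing (Localization.AtPrime m) := by
      obtain ⟨m, hm⟩ := Ideal.exists_maximal Cg
      by_cases hQm : Q₀ = m
      · refine ⟨m, hm, LC.Canon.isCMLocal_of_dim_zero ?_⟩
        rw [IsLocalization.AtPrime.ringKrullDim_eq_height m (Localization.AtPrime m)]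
        have : m.height = 0 := by
          rw [Ideal.height_eq_zero_iff]
          exact ⟨⟨hm.isPrime, bot_le⟩, fun q hq _ => hQm ▸ hle q hq.1⟩
        rw [this]; rfl
      · obtain ⟨f, hfm, hfQ⟩ : ∃ f ∈ m, f ∉ Q₀ := SetLike.not_le_iff_exists.mp fun h =>
          hQm (le_antisymm (hle m hm.isPrime) h)
        have hf : f ∈ nonZeroDivisors Cg := by
          refine mem_nonZeroDivisors_iff_right.mpr fun x hx => ?_
          by_contra hx0
          have : f ∈ {r : Cg | ∃ x : Cg, x ≠ 0 ∧ r • x = 0} := ⟨x, hx0, by rw [smul_eq_mul, mul_comm]; exact hx⟩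
          rw [← biUnion_associatedPrimes_eq_zero_divisors] at this
          obtain ⟨Q, hQ, hfQ'⟩ := Set.mem_iUnion₂.mp this
          exact hfQ (huniq Q hQ ▸ hfQ')
        have hne : Ideal.span {f} ≠ ⊤ := fun h =>
          hm.ne_top (top_le_iff.mp (h ▸ (Ideal.span_singleton_le_iff_mem _).mpr hfm))
        haveI : Nontrivial (Cg ⧸ Ideal.span {f}) := Ideal.Quotient.nontrivial_iff.mpr hne
        haveI : Algebra.FiniteType A (Cg ⧸ Ideal.span {f}) :=
          Algebra.FiniteType.of_surjective (Ideal.Quotient.mkₐ A _) Ideal.Quotient.mk_surjective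
        have h1 := (ringKrullDim_quotient_succ_le_of_nonZeroDivisor hf).trans hdimg
        obtain ⟨d, hd⟩ : ∃ d : ℕ, ringKrullDim (Cg ⧸ Ideal.span {f}) ≤ (d : WithBot ℕ∞) ∧ d < k := by
          rcases k with _ | k
          · exfalso
            have h0 : (0 : WithBot ℕ∞) ≤ ringKrullDim (Cg ⧸ Ideal.span {f}) := ringKrullDim_nonneg_of_nontrivial
            have h2 := (add_le_add_left h0 1).trans h1
            rw [zero_add, Nat.cast_zero] at h2
            exact absurd h2 (not_le.mpr zero_lt_one)
          · refine ⟨k, ?_, k.lt_succ_self⟩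
            rcases hb : ringKrullDim (Cg ⧸ Ideal.span {f}) with _ | b
            · exact bot_le
            · rw [hb] at h1
              change ((b : ℕ∞) : WithBot ℕ∞) + 1 ≤ (((k + 1 : ℕ) : ℕ∞) : WithBot ℕ∞) at h1
              rw [← WithBot.coe_one, ← WithBot.coe_add, WithBot.coe_le_coe, Nat.cast_add, Nat.cast_one,
                ENat.add_le_add_iff_right ENat.one_ne_top] at h1
              exact WithBot.coe_le_coe.mpr h1
        obtain ⟨n, hn, hnCM⟩ := ih d hd.2 _ hd.1
        refine ⟨n.comap (Ideal.Quotient.mk _), Ideal.comap_isMaximal_of_surjective _ Ideal.Quotient.mk_surjective, ?_⟩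
        exact isCMLocal_atPrime_of_quot hf n
    have hclosed : IsClosed ({PrimeSpectrum.comap (algebraMap C Cg) ⟨m, hm.isPrime⟩} : Set (PrimeSpectrum C)) := by
      refine isClosed_singleton_of_isLocallyClosed_singleton ?_
      rw [← Set.image_singleton]
      exact (((PrimeSpectrum.isClosed_singleton_iff_isMaximal _).mpr hm).isLocallyClosed).image
        (PrimeSpectrum.localization_away_isOpenEmbedding Cg g).isInducing
        (PrimeSpectrum.localization_away_isOpenEmbedding Cg g).isOpen_range.isLocallyClosed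
    refine ⟨m.comap (algebraMap C Cg), (PrimeSpectrum.isClosed_singleton_iff_isMaximal _).mp hclosed, ?_⟩
    haveI := IsLocalization.isLocalization_isLocalization_atPrime_isLocalization (Submonoid.powers g)
      (Localization.AtPrime m) m
    exact LC.Liaison.isCMLocal_of_ringEquiv
      (IsLocalization.algEquiv (m.comap (algebraMap C Cg)).primeCompl (Localization.AtPrime m)
        (Localization.AtPrime (m.comap (algebraMap C Cg)))).toRingEquiv

theorem exists_isMaximal_isCMLocal' (A : Type u) [CommRing A] [IsArtinianRing A] (C : Type u) [CommRing C]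
    [Algebra A C] [Algebra.FiniteType A C] [Nontrivial C] :
    ∃ m : Ideal C, ∃ _ : m.IsMaximal, LocCoh.IsCohenMacaulayLocalRing (Localization.AtPrime m) := by
  obtain ⟨n, φ, hφ⟩ := Algebra.FiniteType.iff_quotient_mvPolynomial''.mp ‹Algebra.FiniteType A C›
  refine exists_isMaximal_isCMLocal A n C ?_
  refine (ringKrullDim_le_of_surjective φ.toRingHom hφ).trans ?_
  rw [MvPolynomial.ringKrullDim_of_isNoetherianRing, Nat.card_fin]
  haveI : Ring.KrullDimLE 0 A := inferInstance
  calc ringKrullDim A + (n : WithBot ℕ∞) ≤ 0 + (n : WithBot ℕ∞) :=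
        add_le_add_left (Ring.krullDimLE_iff.mp ‹Ring.KrullDimLE 0 A›) _
    _ = _ := zero_add _

end Groth.Agent.CMPointLib
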